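import Cfsg.Agent.H520.FC.Defs

/-!
# S2464, `F₄(q)`, `q` odd: the centre of `U` is the root group of the highest root (helper7)

`wds` : words for the four simple roots of the `D₄` of long roots; the roots which are dominant for this `D₄` have the
numbers `39, 40, 44` (short) and `47` (`θ`); the short ones are removed by the roots `38, 36, 29` (`s + s' = θ`, constant
`± 2`).
-/

set_option autoImplicit false
set_option linter.unusedSectionVars false

namespace Cfsg.Agent.H7.FC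

open CoxeterSystem Cfsg.Agent.ChevalleyStructure.CoxeterGeom Cfsg.Agent.Tits.Roots Cfsg.Agent.Tits.Core
  Cfsg.Agent.Tits.Exchange Cfsg.Agent.Nodes.Reps Cfsg.Agent.Nodes.BNOf Cfsg.Agent.Nodes.StabComb
  Cfsg.Agent.Nodes.Bruhat Cfsg.Agent.Nodes.OppDec Cfsg.Agent.Nodes.LeviDec Cfsg.Agent.Nodes.NormX
  Cfsg.Agent.Nodes.Coroot Cfsg.Agent.Nodes.RGDChev Cfsg.Agent.KFacts.RgdPar Cfsg.Agent.KFacts.RgdTI
  Cfsg.Agent.KFacts.RgdCent Cfsg.Agent.KFacts.RgdChevCoord Cfsg.Agent.Nodes.ChevCls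
  Cfsg.Agent.OddHalf.NI.ModelChev Cfsg.Agent.H225.PPow
open Cfsg.Lie Cfsg.Agent.ChevalleyStructure Cfsg.Agent.ChevalleyStructure.Elts
  Cfsg.Agent.ChevalleyStructure.RootVec Cfsg.Agent.ChevalleyStructure.NPerm
  Cfsg.Agent.ChevalleyStructure.CoxeterGeomTypes
open Cfsg.Agent.H701.F43.Cent (hF cF finW nroots lrF4)
open Cfsg.Agent.H520.FC

universe u

/-- words for the simple roots of `D₄` -/
def wds : List (List (Fin 4)) := [[], [3, 2], [1, 3, 2], [0, 1, 3, 2]]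

theorem dom_tab : ∀ s < chevF4.nroots,
    (∀ w ∈ wds, 0 ≤ chevF4.cartan (3 : Fin 4) (wact chevF4 w.reverse s)) → s ∈ [39, 40, 44, 47] := by
  decide +kernel

theorem pos_tab : ∀ w ∈ wds, ∀ i : Fin 4, 0 ≤ vec chevF4 4 (wact chevF4 w (chevF4.simple (3 : Fin 4))) i := by
  decide +kernel

theorem pos_tab' : ∀ r ∈ [29, 36, 38, 39, 40, 44, 47], r < chevF4.nroots ∧ ∀ i : Fin 4, 0 ≤ vec chevF4 4 r i := by
  decide +kernel

theorem comm_tab : ∀ r ∈ [39, 40, 44, 47], ∀ s ∈ [39, 40, 44, 47], s ≠ r → s ≠ chevF4.neg r ∧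
    chevF4.commTerms r s = [] := by
  decide +kernel

theorem comm_tab' : ∀ x ∈ [(29, 39), (29, 40), (29, 47), (36, 39), (36, 44), (36, 47), (38, 40), (38, 44), (38, 47)],
    (x : ℕ × ℕ).2 ≠ x.1 ∧ x.2 ≠ chevF4.neg x.1 ∧ chevF4.commTerms x.1 x.2 = [] := by
  decide +kernel

theorem comm_tab'' : ∀ x ∈ [(29, 44), (36, 40), (38, 39)],
    (x : ℕ × ℕ).2 ≠ x.1 ∧ x.2 ≠ chevF4.neg x.1 ∧ (chevF4.commTerms x.1 x.2 = [(47, 2, 1, 1)] ∨
      chevF4.commTerms x.1 x.2 = [(47, -2, 1, 1)]) := by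
  decide +kernel

/-- the long roots -/
def PsiL : Set (Fin 4 → ℤ) := {a | ∃ w ∈ wds, a = rep cF hF.isCartan (cF.wordProd w) (sr 3)}

/-- the dominant roots -/
def S4 : Set (Fin 4 → ℤ) := {x | ∃ r ∈ [39, 40, 44, 47], x = vec chevF4 4 r}

theorem cpr_w (w : List (Fin 4)) {r : ℕ} (hr : r < chevF4.nroots) :
    cpr cF hF.isCartan (vec chevF4 4 r) (rep cF hF.isCartan (cF.wordProd w) (sr 3)) =
      chevF4.cartan (3 : Fin 4) (wact chevF4 w.reverse r) := by
  have h1 : cpr cF hF.isCartan (rep cF hF.isCartan (cF.wordProd w)⁻¹ (vec chevF4 4 r)) (sr 3) =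
      cpr cF hF.isCartan (vec chevF4 4 r) (rep cF hF.isCartan (cF.wordProd w) (sr 3)) := by
    rw [cpr_rep_left _ _ (isRoot_sr cF hF.isCartan 3), inv_inv]
  rw [← h1, ← wordProd_reverse, rep_word hF cF _ hr, Cfsg.Agent.Nodes.ChevCls.cpr_vec hF cF 3 (wact_lt hF _ hr)]

theorem star_sub : Star cF hF.isCartan PsiL ⊆ S4 := by
  rintro x ⟨hx, h⟩
  obtain ⟨r, hr, rfl⟩ := (isRoot_iff hF cF x).1 hx
  exact ⟨r, dom_tab r hr fun w hw => by rw [← cpr_w w hr]; exact h _ ⟨w, hw, rfl⟩, rfl⟩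

theorem vec_pos {r : ℕ} (hr : r ∈ [29, 36, 38, 39, 40, 44, 47]) :
    vec chevF4 4 r ∈ RGD.Pos cF hF.isCartan :=
  ⟨(isRoot_iff hF cF _).2 ⟨r, (pos_tab' r hr).1, rfl⟩, (pos_tab' r hr).2⟩

theorem psiL_pos {a : Fin 4 → ℤ} (ha : a ∈ PsiL) : a ∈ RGD.Pos cF hF.isCartan := by
  obtain ⟨w, hw, rfl⟩ := ha
  refine ⟨⟨_, 3, rfl⟩, fun i => ?_⟩
  rw [← vec_simple hF 3, rep_word hF cF _ (RootVec.simple_lt hF.checked (lt_rank hF 3))]
  exact pos_tab w hw i

variable {K : Type u} [Field K]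

/-- root elements -/
noncomputable abbrev XG (r : ℕ) (t : K) : GL chevF4.Idx K := xG hF.inList r t

theorem XG_add (r : ℕ) (t u : K) : XG r t * XG r u = XG r (t + u) := xG_add hF.inList r t u

theorem XG_zero (r : ℕ) : XG r (0 : K) = 1 := xG_zero hF.inList r

theorem XG_inv (r : ℕ) (t : K) : (XG r t)⁻¹ = XG r (-t) := xG_inv hF.inList r t

theorem mul_XG {r s : ℕ} (hr : r < chevF4.nroots) (hs : s < chevF4.nroots) (h : s ≠ r) (h' : s ≠ chevF4.neg r)
    (t u : K) : XG s u * XG r t = XG r t * XG s u * wordG hF.inList (chevF4.commWord K r s t u) := by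
  have h1 := comm_xG hF hr hs h h' t u
  rw [commutatorElement_def, inv_inv, inv_inv] at h1
  rw [← h1]
  group

theorem comm_XG {r s : ℕ} (hr : r < chevF4.nroots) (hs : s < chevF4.nroots) (h : s ≠ r) (h' : s ≠ chevF4.neg r)
    (h0 : chevF4.commTerms r s = []) (t u : K) : Commute (XG s u) (XG r t) := by
  have h1 := mul_XG hr hs h h' t u
  have h2 : chevF4.commWord K r s t u = [] := by
    show (chevF4.commTerms r s).map _ = []
    rw [h0, List.map_nil]
  rw [h2, wordG_nil, mul_one] at h1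
  exact h1

theorem comm4 {r s : ℕ} (hr : r ∈ [39, 40, 44, 47]) (hs : s ∈ [39, 40, 44, 47]) (t u : K) :
    Commute (XG s u) (XG r t) := by
  have hlt : ∀ r ∈ [39, 40, 44, 47], r < chevF4.nroots := by decide +kernel
  by_cases h : s = r
  · subst h
    show _ * _ = _ * _
    rw [xG_add, xG_add, add_comm]
  · exact comm_XG (hlt r hr) (hlt s hs) h (comm_tab r hr s hs h).1 (comm_tab r hr s hs h).2 t u

theorem kill (h2 : (2 : K) ≠ 0) {r s : ℕ} (hx : (r, s) ∈ [(29, 44), (36, 40), (38, 39)]) {A C : GL chevF4.Idx K}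
    (b : K) (hA : Commute A (XG r 1)) (hC : Commute C (XG r 1)) (hC' : ∀ c : K, Commute C (XG 47 c))
    (h : (A * XG s b * C) * XG r 1 = XG r 1 * (A * XG s b * C)) : b = 0 := by
  have hlt : ∀ x ∈ [(29, 44), (36, 40), (38, 39)], (x : ℕ × ℕ).1 < chevF4.nroots ∧ x.2 < chevF4.nroots := by
    decide +kernel
  obtain ⟨h3, h4, h5⟩ := comm_tab'' _ hx
  obtain ⟨hr, hs⟩ := hlt _ hx
  simp only at h3 h4 h5 hr hs
  obtain ⟨c, hc, hcw⟩ : ∃ c : K, c ≠ 0 ∧ wordG hF.inList (chevF4.commWord K r s 1 b) = XG 47 (c * b) := by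
    rcases h5 with h5 | h5
    · refine ⟨-2, neg_ne_zero.2 h2, ?_⟩
      have h6 : chevF4.commWord K r s 1 b = [(47, ((2 : ℤ) : K) * (-1) ^ 1 * b ^ 1)] := by
        show (chevF4.commTerms r s).map _ = _
        rw [h5]
        rfl
      rw [h6, wordG_cons, wordG_nil, mul_one]
      congr 1
      push_cast
      ring
    · refine ⟨2, h2, ?_⟩
      have h6 : chevF4.commWord K r s 1 b = [(47, ((-2 : ℤ) : K) * (-1) ^ 1 * b ^ 1)] := by
        show (chevF4.commTerms r s).map _ = _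
        rw [h5]
        rfl
      rw [h6, wordG_cons, wordG_nil, mul_one]
      congr 1
      push_cast
      ring
  have h7 := mul_XG hr hs h3 h4 1 b
  rw [hcw] at h7
  have h8 : (A * XG s b * C) * XG r 1 = XG r 1 * (A * XG s b * C) * XG 47 (c * b) := by
    calc (A * XG s b * C) * XG r 1 = A * XG s b * (C * XG r 1) := by group
      _ = A * (XG s b * XG r 1) * C := by rw [hC.eq]; group
      _ = (A * XG r 1) * XG s b * (XG 47 (c * b) * C) := by rw [h7]; group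
      _ = _ := by rw [hA.eq, (hC' (c * b)).symm.eq]; group
  rw [h] at h8
  have h9 : XG 47 (c * b) = 1 := (mul_eq_left.1 h8.symm)
  rw [xG_eq_one_iff hF.inList (by rw [nroots]; norm_num)] at h9
  exact (mul_eq_zero.1 h9).resolve_left hc

/-- the elements of the product of the four root groups -/
def Pr4 (K : Type u) [Field K] : Subgroup ↥(chevF4.group K) where
  carrier := {g | ∃ a b c d : K, (g : GL chevF4.Idx K) = XG 39 a * XG 40 b * XG 44 c * XG 47 d}
  one_mem' := ⟨0, 0, 0, 0, by rw [XG_zero, XG_zero, XG_zero, XG_zero]; simp⟩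
  mul_mem' := by
    rintro g g' ⟨a, b, c, d, h⟩ ⟨a', b', c', d', h'⟩
    refine ⟨a + a', b + b', c + c', d + d', ?_⟩
    rw [Subgroup.coe_mul, h, h', ← XG_add, ← XG_add, ← XG_add, ← XG_add]
    have e1 : Commute (XG 47 d) (XG 39 a') := comm4 (by simp) (by simp) _ _
    have e2 : Commute (XG 44 c) (XG 39 a') := comm4 (by simp) (by simp) _ _
    have e3 : Commute (XG 40 b) (XG 39 a') := comm4 (by simp) (by simp) _ _
    have e4 : Commute (XG 47 d) (XG 40 b') := comm4 (by simp) (by simp) _ _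
    have e5 : Commute (XG 44 c) (XG 40 b') := comm4 (by simp) (by simp) _ _
    have e6 : Commute (XG 47 d) (XG 44 c') := comm4 (by simp) (by simp) _ _
    simp only [mul_assoc]
    rw [e1.left_comm, e2.left_comm, e3.left_comm, e4.left_comm, e5.left_comm, e6.left_comm]
  inv_mem' := by
    rintro g ⟨a, b, c, d, h⟩
    refine ⟨-a, -b, -c, -d, ?_⟩
    rw [Subgroup.coe_inv, h, ← XG_inv, ← XG_inv, ← XG_inv, ← XG_inv]
    have e1 : Commute (XG 47 d)⁻¹ (XG 39 a)⁻¹ := (comm4 (by simp) (by simp) _ _).inv_inv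
    have e2 : Commute (XG 44 c)⁻¹ (XG 39 a)⁻¹ := (comm4 (by simp) (by simp) _ _).inv_inv
    have e3 : Commute (XG 40 b)⁻¹ (XG 39 a)⁻¹ := (comm4 (by simp) (by simp) _ _).inv_inv
    have e4 : Commute (XG 47 d)⁻¹ (XG 40 b)⁻¹ := (comm4 (by simp) (by simp) _ _).inv_inv
    have e5 : Commute (XG 44 c)⁻¹ (XG 40 b)⁻¹ := (comm4 (by simp) (by simp) _ _).inv_inv
    have e6 : Commute (XG 47 d)⁻¹ (XG 44 c)⁻¹ := (comm4 (by simp) (by simp) _ _).inv_inv
    simp only [mul_inv_rev]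
    rw [e3.eq, e2.left_comm, e1.left_comm, e5.eq, e4.left_comm, e6.eq]
    simp only [mul_assoc]

section

variable [Finite K] (p : ℕ) [Fact p.Prime] [CharP K p]

include p in
theorem mem_XX {r : ℕ} (hr : r < chevF4.nroots) {v : ↥(chevF4.group K)} :
    v ∈ XX chevF4 4 K (vec chevF4 4 r) ↔ ∃ c : K, (v : GL chevF4.Idx K) = XG r c := by
  rw [((coords (K := K) hF cF p).coord _ ((isRoot_iff hF cF _).2 ⟨r, hr, rfl⟩)).mem]
  constructor
  · rintro ⟨c, rfl⟩
    exact ⟨c, coe_xc hF hr c⟩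
  · rintro ⟨c, hc⟩
    exact ⟨c, Subtype.ext (by rw [coe_xc hF hr, hc])⟩

include p in
theorem sup_le_Pr4 : RGD.Sup (XX chevF4 4 K) S4 ≤ Pr4 K := by
  refine RGD.Sup_le fun x hx => ?_
  obtain ⟨r, hr, rfl⟩ := hx
  intro v hv
  have hlt : ∀ r ∈ [39, 40, 44, 47], r < chevF4.nroots := by decide +kernel
  obtain ⟨c, hc⟩ := (mem_XX p (hlt r hr)).1 hv
  simp only [List.mem_cons, List.not_mem_nil, or_false] at hr
  rcases hr with rfl | rfl | rfl | rfl
  · exact ⟨c, 0, 0, 0, by rw [hc, XG_zero, XG_zero, XG_zero]; simp⟩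
  · exact ⟨0, c, 0, 0, by rw [hc, XG_zero, XG_zero, XG_zero]; simp⟩
  · exact ⟨0, 0, c, 0, by rw [hc, XG_zero, XG_zero, XG_zero]; simp⟩
  · exact ⟨0, 0, 0, c, by rw [hc, XG_zero, XG_zero, XG_zero]; simp⟩

theorem psiL_LR : ∀ a ∈ PsiL, LR (rgd (K := K) hF cF p) a := by
  rintro a ⟨w, hw, rfl⟩
  have L : LR (rgd (K := K) hF cF p) (sr (3 : Fin 4)) := lr_tab hF cF p (d := 0) (dvd_zero _) lrF4
  exact L.act _

end

/-- **The centre of `U`**, `F₄(q)`, `q` odd. -/
theorem center_U [Finite K] (h2 : (2 : K) ≠ 0) {u : ↥(chevF4.group K)}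
    (hu : u ∈ RGD.Sup (XX chevF4 4 K) (RGD.Pos cF hF.isCartan))
    (hc : ∀ v ∈ RGD.Sup (XX chevF4 4 K) (RGD.Pos cF hF.isCartan), u * v = v * u) : u ∈ XT K := by
  obtain ⟨p, hpc⟩ := CharP.exists K
  have : Fact p.Prime := ⟨CharP.char_is_prime K p⟩
  have R := rgd (K := K) hF cF p
  have hgg : u ∈ GG cF hF.isCartan (TT chevF4 K) (XX chevF4 4 K) := by
    have := G1_eq_top hF (K := K) cF
    have h2 : (⊤ : Subgroup ↥(chevF4.group K)) ≤ GG cF hF.isCartan (TT chevF4 K) (XX chevF4 4 K) := by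
      rw [← this]
      exact le_sup_right
    exact h2 trivial
  have hcX : ∀ a ∈ RGD.Pos cF hF.isCartan, ∀ v ∈ XX chevF4 4 K a, u * v = v * u := fun a ha v hv =>
    hc v (RGD.le_Sup ha hv)
  obtain ⟨t, ht, -, q, hq, htq⟩ := cent_eq (rgd (K := K) hF cF p) (psiL_LR p) (star_comm (psiL_LR p)) hgg
    (fun a ha v hv => hcX a (psiL_pos ha) v hv)
  have hq4 : q ∈ RGD.Sup (XX chevF4 4 K) S4 := RGD.Sup_mono star_sub hq
  have hqU : q ∈ RGD.Sup (XX chevF4 4 K) (RGD.Pos cF hF.isCartan) := by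
    refine RGD.Sup_mono (fun x hx => ?_) hq4
    obtain ⟨r, hr, rfl⟩ := hx
    exact vec_pos (by
      simp only [List.mem_cons, List.not_mem_nil, or_false] at hr ⊢
      tauto)
  have ht1 : t = 1 := by
    have h3 : t ∈ RGD.Sup (XX chevF4 4 K) (RGD.Pos cF hF.isCartan) ⊓ TT chevF4 K :=
      ⟨by
        have := mul_mem hu (inv_mem hqU)
        rwa [htq, mul_inv_cancel_right] at this, ht⟩
    rw [U_inf_T (rgd (K := K) hF cF p), Subgroup.mem_bot] at h3
    exact h3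
  rw [ht1, one_mul] at htq
  rw [← htq] at hq4
  obtain ⟨a, b, c, d, he⟩ := sup_le_Pr4 p hq4
  have hy : ∀ r ∈ [29, 36, 38], (u : GL chevF4.Idx K) * XG r 1 = XG r 1 * (u : GL chevF4.Idx K) := by
    intro r hr
    have hr' : r ∈ [29, 36, 38, 39, 40, 44, 47] := by
      simp only [List.mem_cons, List.not_mem_nil, or_false] at hr ⊢
      tauto
    have hr1 := (pos_tab' r hr').1
    have h3 := hcX _ (vec_pos hr') (xc hF (vec chevF4 4 r) 1) ((mem_XX p hr1).2 ⟨1, coe_xc hF hr1 1⟩)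
    have h4 := congrArg (fun g : ↥(chevF4.group K) => (g : GL chevF4.Idx K)) h3
    simp only [Subgroup.coe_mul, coe_xc hF hr1] at h4
    exact h4
  have hlt : ∀ r ∈ [29, 36, 38, 39, 40, 44, 47], r < chevF4.nroots := fun r hr => (pos_tab' r hr).1
  have cm : ∀ x ∈ [(29, 39), (29, 40), (29, 47), (36, 39), (36, 44), (36, 47), (38, 40), (38, 44), (38, 47)],
      ∀ t u : K, Commute (XG (x : ℕ × ℕ).2 u) (XG x.1 t) := by
    intro x hx t u
    obtain ⟨h3, h4, h5⟩ := comm_tab' x hx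
    refine comm_XG (hlt _ ?_) (hlt _ ?_) h3 h4 h5 t u <;>
    · revert x
      decide +kernel
  -- `c = 0`
  have hc0 : c = 0 := by
    refine kill (r := 29) (s := 44) h2 (by simp) (A := XG 39 a * XG 40 b) (C := XG 47 d) c ?_ ?_ ?_ ?_
    · exact (cm (29, 39) (by simp) 1 a).mul_left (cm (29, 40) (by simp) 1 b)
    · exact cm (29, 47) (by simp) 1 d
    · intro e
      exact comm4 (by simp) (by simp) _ _
    · rw [← he]
      exact hy 29 (by simp)
  have hb0 : b = 0 := by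
    refine kill (r := 36) (s := 40) h2 (by simp) (A := XG 39 a) (C := XG 44 c * XG 47 d) b ?_ ?_ ?_ ?_
    · exact cm (36, 39) (by simp) 1 a
    · exact (cm (36, 44) (by simp) 1 c).mul_left (cm (36, 47) (by simp) 1 d)
    · intro e
      exact (comm4 (by simp) (by simp) _ _).mul_left (comm4 (by simp) (by simp) _ _)
    · rw [← mul_assoc, ← he]
      exact hy 36 (by simp)
  have ha0 : a = 0 := by
    refine kill (r := 38) (s := 39) h2 (by simp) (A := 1) (C := XG 40 b * XG 44 c * XG 47 d) a ?_ ?_ ?_ ?_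
    · exact Commute.one_left _
    · exact ((cm (38, 40) (by simp) 1 b).mul_left (cm (38, 44) (by simp) 1 c)).mul_left (cm (38, 47) (by simp) 1 d)
    · intro e
      exact ((comm4 (by simp) (by simp) _ _).mul_left (comm4 (by simp) (by simp) _ _)).mul_left
        (comm4 (by simp) (by simp) _ _)
    · rw [one_mul, ← mul_assoc, ← mul_assoc, ← he]
      exact hy 38 (by simp)
  rw [ha0, hb0, hc0, XG_zero, XG_zero, XG_zero, one_mul, one_mul, one_mul] at he
  exact (mem_XX p (by rw [nroots]; norm_num)).2 ⟨d, he⟩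

end Cfsg.Agent.H7.FC
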